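import Mathlib

/-!
# Piece (G12) of S4316 (helper71's plan, board #8347): a doubly indexed union of small sets is small
-/

set_option autoImplicit false

namespace Cfsg.Agent.Helper12.GS

/-- a union of at most `c₁` sets of size at most `c₂` has size at most `c₁ * c₂` -/
theorem gs_ncard_biUnion_le {Γ Δ : Type*} [Finite Γ] [Finite Δ] (𝒜 : Set Δ) (Z : Δ → Set Γ)
    (c₁ c₂ : ℕ) (h₁ : 𝒜.ncard ≤ c₁) (h₂ : ∀ f ∈ 𝒜, (Z f).ncard ≤ c₂) :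
    Set.ncard (⋃ f ∈ 𝒜, Z f) ≤ c₁ * c₂ := by
  classical
  have := Fintype.ofFinite Γ
  have := Fintype.ofFinite Δ
  have e : (⋃ f ∈ 𝒜, Z f) = ((𝒜.toFinset.biUnion fun f => (Z f).toFinset : Finset Γ) : Set Γ) := by
    ext w
    simp
  rw [e, Set.ncard_coe_finset]
  refine le_trans Finset.card_biUnion_le ?_
  refine le_trans (Finset.sum_le_card_nsmul _ _ c₂ ?_) ?_
  · intro f hf
    rw [← Set.ncard_eq_toFinset_card']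
    exact h₂ f (by simpa using hf)
  · rw [smul_eq_mul, ← Set.ncard_eq_toFinset_card']
    exact Nat.mul_le_mul_right _ h₁

/-- (G12) pure counting: a doubly indexed union of small sets is small -/
theorem ncard_double_union_le {Γ : Type*} [Finite Γ] (𝒜 : Set Γ) (Z : Γ → Set Γ) (C : Γ → Set Γ)
    (c₁ c₂ c₃ : ℕ) (h₁ : 𝒜.ncard ≤ c₁) (h₂ : ∀ f ∈ 𝒜, (Z f).ncard ≤ c₂)
    (h₃ : ∀ f ∈ 𝒜, ∀ z ∈ Z f, (C z).ncard ≤ c₃) :
    Set.ncard {w : Γ | ∃ f ∈ 𝒜, ∃ z ∈ Z f, w ∈ C z} ≤ c₁ * c₂ * c₃ := by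
  have e : {w : Γ | ∃ f ∈ 𝒜, ∃ z ∈ Z f, w ∈ C z} = ⋃ f ∈ 𝒜, (⋃ z ∈ Z f, C z) := by
    ext w
    simp
  rw [e, mul_assoc]
  refine gs_ncard_biUnion_le 𝒜 _ c₁ (c₂ * c₃) h₁ ?_
  intro f hf
  exact gs_ncard_biUnion_le (Z f) C c₂ c₃ (h₂ f hf) (h₃ f hf)

end Cfsg.Agent.Helper12.GS
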