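import Mathlib

/-!
# Piece (G6) of S4316 (helper71's plan, board #8340): two independent elements centralizing `x`
force a stabilizer of order at least `q ^ 2`
-/

set_option autoImplicit false

namespace Cfsg.Agent.Helper12.GS

/-- (G6) two independent elements centralizing `x` force a stabilizer of order `≥ q ^ 2` -/
theorem sq_le_card_stabilizer {Γ : Type*} [Group Γ] [Finite Γ] {q : ℕ} (hq : q.Prime)
    (A : Subgroup Γ) (hexp : ∀ a ∈ A, a ^ q = 1) (hA : Nat.card A = q ^ 3)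
    {a e x : Γ} (ha : a ∈ A) (ha1 : a ≠ 1) (he : e ∈ A) (hea : e ∉ Subgroup.zpowers a)
    (hxa : Commute a x) (hxe : Commute e x) :
    q ^ 2 ≤ Nat.card ↥(A ⊓ Subgroup.centralizer {x}) := by
  have haS : a ∈ A ⊓ Subgroup.centralizer {x} :=
    ⟨ha, Subgroup.mem_centralizer_singleton_iff.mpr hxa.eq⟩
  have heS : e ∈ A ⊓ Subgroup.centralizer {x} :=
    ⟨he, Subgroup.mem_centralizer_singleton_iff.mpr hxe.eq⟩
  have hdvd : Nat.card ↥(A ⊓ Subgroup.centralizer {x}) ∣ q ^ 3 := by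
    rw [← hA]
    exact Subgroup.card_dvd_of_le inf_le_left
  obtain ⟨j, hj3, hj⟩ := (Nat.dvd_prime_pow hq).mp hdvd
  have hza : Subgroup.zpowers a ≤ A ⊓ Subgroup.centralizer {x} :=
    (Subgroup.zpowers_le).mpr haS
  have : Fact q.Prime := ⟨hq⟩
  have hord : orderOf a = q := orderOf_eq_prime_iff.mpr ⟨hexp a ha, ha1⟩
  have hcz : Nat.card (Subgroup.zpowers a) = q := by
    rw [Nat.card_zpowers, hord]
  rw [hj]
  apply Nat.pow_le_pow_right hq.pos
  by_contra hcon
  have hj1 : j ≤ 1 := by omega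
  have hle : Nat.card ↥(A ⊓ Subgroup.centralizer {x}) ≤ Nat.card (Subgroup.zpowers a) := by
    rw [hj, hcz]
    calc q ^ j ≤ q ^ 1 := Nat.pow_le_pow_right hq.pos hj1
      _ = q := pow_one q
  have heq : Subgroup.zpowers a = A ⊓ Subgroup.centralizer {x} :=
    Subgroup.eq_of_le_of_card_ge hza hle
  exact hea (heq ▸ heS)

end Cfsg.Agent.Helper12.GS
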