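import Cfsg.Agent.Helper12.GS.G7core
import Cfsg.Agent.Helper29.GS.G5

/-!
# Piece (G7) of S4316 (helper71's plan, board #8341): rank three coprime generation
-/

set_option autoImplicit false

namespace Cfsg.Agent.Helper12.GS

/-- (G7) `N` is generated by the elements fixed by a rank-2 subgroup of `A` -/
theorem le_closure_big_stabilizer {Γ : Type*} [Group Γ] [Finite Γ] {q : ℕ} [Fact q.Prime]
    (N A : Subgroup Γ) (hAN : A ≤ Subgroup.normalizer (N : Set Γ)) (hqN : ¬ q ∣ Nat.card N)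
    (hcomm : ∀ x ∈ A, ∀ y ∈ A, x * y = y * x) (hexp : ∀ a ∈ A, a ^ q = 1)
    (hA : Nat.card A = q ^ 3) :
    N ≤ Subgroup.closure {x | x ∈ N ∧ q ^ 2 ≤ Nat.card ↥(A ⊓ Subgroup.centralizer {x})} :=
  le_closure_big_stabilizer_of N A hAN hqN hcomm hexp hA
    (fun _ ha ha1 => Cfsg.Agent.Helper29.GS.exists_isEA2_disjoint A hcomm hexp hA ha ha1)

end Cfsg.Agent.Helper12.GS
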