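import Cfsg.Agent.Helper48.CoprimeGen
import Cfsg.Agent.Helper12.GS.G6

/-!
# Piece (G7) of S4316 (helper71's plan, board #8341), core: rank three coprime generation,
with the conclusion of (G5) taken as a hypothesis
-/

set_option autoImplicit false

namespace Cfsg.Agent.Helper12.GS

open Cfsg.Agent.Helper48

/-- (G7), with (G5) as an explicit hypothesis -/
theorem le_closure_big_stabilizer_of {Γ : Type*} [Group Γ] [Finite Γ] {q : ℕ} [Fact q.Prime]
    (N A : Subgroup Γ) (hAN : A ≤ Subgroup.normalizer (N : Set Γ)) (hqN : ¬ q ∣ Nat.card N)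
    (hcomm : ∀ x ∈ A, ∀ y ∈ A, x * y = y * x) (hexp : ∀ a ∈ A, a ^ q = 1)
    (hA : Nat.card A = q ^ 3)
    (hG5 : ∀ a : Γ, a ∈ A → a ≠ 1 → ∃ E : Subgroup Γ, E ≤ A ∧ Cfsg.Agent.Helper48.IsEA2 q E ∧
      ∀ e ∈ E, e ≠ 1 → e ∉ Subgroup.zpowers a) :
    N ≤ Subgroup.closure {x | x ∈ N ∧ q ^ 2 ≤ Nat.card ↥(A ⊓ Subgroup.centralizer {x})} := by
  have hq : q.Prime := Fact.out
  have hcardA : q ^ 2 ≤ Nat.card A := by
    rw [hA]; exact Nat.pow_le_pow_right hq.pos (by norm_num)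
  refine (le_cgen_of_le_card N A hqN hAN hcomm hexp hcardA).trans ?_
  unfold cgen
  apply iSup_le
  rintro ⟨a, ha, ha1⟩
  obtain ⟨E, hEA, hE, hEa⟩ := hG5 a ha ha1
  -- `E` normalizes `K_a = N ⊓ C(a)`
  have hEK : E ≤ Subgroup.normalizer ((N ⊓ Subgroup.centralizer {a} : Subgroup Γ) : Set Γ) := by
    apply mem_normalizer_of_forall_conj_mem
    rintro e he x ⟨hxN, hxa⟩
    refine ⟨?_, ?_⟩
    · exact (Subgroup.mem_normalizer_iff.mp (hAN (hEA he)) x).mp hxN
    · have hxa' : x * a = a * x := Subgroup.mem_centralizer_singleton_iff.mp hxa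
      have hea : e * a = a * e := hcomm e (hEA he) a ha
      change e * x * e⁻¹ ∈ Subgroup.centralizer {a}
      rw [Subgroup.mem_centralizer_singleton_iff]
      have hea' : e⁻¹ * a = a * e⁻¹ := by
        have : a = e * a * e⁻¹ := by rw [hea, mul_inv_cancel_right]
        calc e⁻¹ * a = e⁻¹ * (e * a * e⁻¹) := by rw [← this]
          _ = a * e⁻¹ := by group
      calc e * x * e⁻¹ * a = e * x * (e⁻¹ * a) := by group
        _ = e * x * (a * e⁻¹) := by rw [hea']
        _ = e * (x * a) * e⁻¹ := by group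
        _ = e * (a * x) * e⁻¹ := by rw [hxa']
        _ = (e * a) * x * e⁻¹ := by group
        _ = (a * e) * x * e⁻¹ := by rw [hea]
        _ = a * (e * x * e⁻¹) := by group
  have hqK : ¬ q ∣ Nat.card ↥(N ⊓ Subgroup.centralizer {a}) := fun h =>
    hqN (h.trans (Subgroup.card_dvd_of_le inf_le_left))
  refine (le_cgen (N ⊓ Subgroup.centralizer {a}) E hqK hEK hE).trans ?_
  unfold cgen
  apply iSup_le
  rintro ⟨e, he, he1⟩
  rintro x ⟨⟨hxN, hxa⟩, hxe⟩
  apply Subgroup.subset_closure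
  refine ⟨hxN, ?_⟩
  have hxa' : x * a = a * x := Subgroup.mem_centralizer_singleton_iff.mp hxa
  have hxe' : x * e = e * x := Subgroup.mem_centralizer_singleton_iff.mp hxe
  exact sq_le_card_stabilizer hq A hexp hA ha ha1 (hEA he) (hEa e he he1) hxa'.symm hxe'.symm

end Cfsg.Agent.Helper12.GS
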