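import Mathlib

/-!
# Piece (G9) of S4316 (helper71's plan, board #8343): orbit-stabilizer for conjugation by a subgroup
-/

set_option autoImplicit false

namespace Cfsg.Agent.Helper12.GS

/-- (G9) orbit-stabilizer for conjugation by a subgroup -/
theorem ncard_conj_le {Γ : Type*} [Group Γ] [Finite Γ] (N : Subgroup Γ) (z : Γ) (k : ℕ)
    (h : Nat.card N ≤ k * Nat.card ↥(N ⊓ Subgroup.centralizer {z})) :
    Set.ncard {w : Γ | ∃ g ∈ N, w = g * z * g⁻¹} ≤ k := by
  classical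
  have hCpos : 0 < Nat.card ↥(N ⊓ Subgroup.centralizer {z}) := Nat.card_pos
  -- choose representatives
  have hrep : ∀ w : {w : Γ | ∃ g ∈ N, w = g * z * g⁻¹}, ∃ g : Γ, g ∈ N ∧ (w : Γ) = g * z * g⁻¹ :=
    fun w => w.2
  choose r hrN hr using hrep
  have hc : ∀ c : ↥(N ⊓ Subgroup.centralizer {z}), (c : Γ) * z * (c : Γ)⁻¹ = z := by
    intro c
    have hcm : (c : Γ) ∈ Subgroup.centralizer {z} := c.2.2
    have h1 : (c : Γ) * z = z * (c : Γ) := Subgroup.mem_centralizer_singleton_iff.mp hcm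
    rw [h1, mul_inv_cancel_right]
  have hconj : ∀ (g : Γ) (c : ↥(N ⊓ Subgroup.centralizer {z})),
      (g * (c : Γ)) * z * (g * (c : Γ))⁻¹ = g * z * g⁻¹ := by
    intro g c
    have : (g * (c : Γ)) * z * (g * (c : Γ))⁻¹ = g * ((c : Γ) * z * (c : Γ)⁻¹) * g⁻¹ := by group
    rw [this, hc]
  let φ : {w : Γ | ∃ g ∈ N, w = g * z * g⁻¹} × ↥(N ⊓ Subgroup.centralizer {z}) → N :=
    fun x => ⟨r x.1 * (x.2 : Γ), N.mul_mem (hrN x.1) x.2.2.1⟩
  have hφ : Function.Injective φ := by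
    rintro ⟨w, c⟩ ⟨w', c'⟩ hww
    have h1 : r w * (c : Γ) = r w' * (c' : Γ) := congrArg Subtype.val hww
    have hw : (w : Γ) = (w' : Γ) := by
      calc (w : Γ) = r w * z * (r w)⁻¹ := hr w
        _ = (r w * (c : Γ)) * z * (r w * (c : Γ))⁻¹ := (hconj _ c).symm
        _ = (r w' * (c' : Γ)) * z * (r w' * (c' : Γ))⁻¹ := by rw [h1]
        _ = r w' * z * (r w')⁻¹ := hconj _ c'
        _ = w' := (hr w').symm
    have hw' : w = w' := Subtype.ext hw
    subst hw'
    have : (c : Γ) = c' := mul_left_cancel h1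
    exact Prod.ext rfl (Subtype.ext this)
  have hle := Nat.card_le_card_of_injective φ hφ
  rw [Nat.card_prod, Nat.card_coe_set_eq] at hle
  exact Nat.le_of_mul_le_mul_right (le_trans hle h) hCpos

end Cfsg.Agent.Helper12.GS
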